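import Groth.Agent.Lib.CAlgLow.NilLift
import Groth.Agent.Lib.ChevAff4.Main
import Mathlib.AlgebraicGeometry.Pullbacks
import Mathlib.AlgebraicGeometry.Morphisms.Flat
import Mathlib.AlgebraicGeometry.Morphisms.ClosedImmersion

/-!
# A morphism into a scheme which is invertible modulo a nilpotent ideal, with flat source, is invertible
-/

set_option autoImplicit false
set_option backward.isDefEq.respectTransparency false
set_option backward.isDefEq.respectTransparency.types false

universe u

open CategoryTheory CategoryTheory.Limits AlgebraicGeometry TensorProduct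

noncomputable section

namespace Groth.Agent.GrpLift20

variable {R : Type u} [CommRing R] {I : Ideal R}

/-- The closed immersion defined by the ideal. -/
abbrev thick (I : Ideal R) : Spec (CommRingCat.of (R ⧸ I)) ⟶ Spec (CommRingCat.of R) :=
  Spec.map (CommRingCat.ofHom (algebraMap R (R ⧸ I)))

instance isClosedImmersion_thick : IsClosedImmersion (thick I) :=
  IsClosedImmersion.spec_of_surjective _ Ideal.Quotient.mk_surjective

theorem surjective_thick (hI : IsNilpotent I) : Surjective (thick I) := by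
  refine ⟨fun p => ?_⟩
  have : p ∈ Set.range (PrimeSpectrum.comap (Ideal.Quotient.mk I)) := by
    rw [range_comap_of_surjective _ _ Ideal.Quotient.mk_surjective, Ideal.mk_ker,
      PrimeSpectrum.mem_zeroLocus, SetLike.coe_subset_coe]
    obtain ⟨n, hn⟩ := hI
    exact (Ideal.IsPrime.isRadical p.isPrime).trans' (fun x hx => ⟨n, by
      have := Ideal.pow_mem_pow hx n; rw [hn] at this; rw [(Submodule.mem_bot R).1 this]; exact zero_mem _⟩) |>.trans le_rfl
  exact this

/-- The base change of a morphism over the base. -/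
abbrev bcMap {Y Y' : Scheme.{u}} (a : Y ⟶ Spec (CommRingCat.of R)) (a' : Y' ⟶ Spec (CommRingCat.of R))
    (f : Y' ⟶ Y) (w : f ≫ a = a') (I : Ideal R) : pullback a' (thick I) ⟶ pullback a (thick I) :=
  pullback.map a' (thick I) a (thick I) f (𝟙 _) (𝟙 _) (by simp [w]) (by simp)

theorem isIso_ring (hI : IsNilpotent I) {B B' : Type u} [CommRing B] [CommRing B'] [Algebra R B] [Algebra R B']
    [Module.Flat R B'] (ψ : B →ₐ[R] B') (w : Spec.map (CommRingCat.ofHom ψ.toRingHom) ≫
      Spec.map (CommRingCat.ofHom (algebraMap R B)) = Spec.map (CommRingCat.ofHom (algebraMap R B')))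
    [IsIso (bcMap (Spec.map (CommRingCat.ofHom (algebraMap R B))) (Spec.map (CommRingCat.ofHom (algebraMap R B')))
      (Spec.map (CommRingCat.ofHom ψ.toRingHom)) w I)] :
    IsIso (Spec.map (CommRingCat.ofHom ψ.toRingHom)) := by
  let φ := Algebra.TensorProduct.map ψ (AlgHom.id R (R ⧸ I))
  have hnat : Spec.map (CommRingCat.ofHom φ.toRingHom) = (pullbackSpecIso R B' (R ⧸ I)).inv ≫
      bcMap (Spec.map (CommRingCat.ofHom (algebraMap R B))) (Spec.map (CommRingCat.ofHom (algebraMap R B')))
        (Spec.map (CommRingCat.ofHom ψ.toRingHom)) w I ≫ (pullbackSpecIso R B (R ⧸ I)).hom := by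
    rw [← cancel_mono (pullbackSpecIso R B (R ⧸ I)).inv]
    simp only [Category.assoc, Iso.hom_inv_id, Category.comp_id]
    apply pullback.hom_ext
    · rw [Category.assoc, pullbackSpecIso_inv_fst, Category.assoc, pullback.lift_fst,
        pullbackSpecIso_inv_fst_assoc, ← Spec.map_comp, ← Spec.map_comp]
      congr 1
    · rw [Category.assoc, pullbackSpecIso_inv_snd, Category.assoc, pullback.lift_snd, Category.comp_id,
        pullbackSpecIso_inv_snd, ← Spec.map_comp]
      congr 1
      ext b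
      simp [φ]
  haveI : IsIso (Spec.map (CommRingCat.ofHom φ.toRingHom)) := by rw [hnat]; infer_instance
  haveI : IsIso (Scheme.Spec.map (CommRingCat.ofHom φ.toRingHom).op) := ‹IsIso (Spec.map (CommRingCat.ofHom φ.toRingHom))›
  haveI : IsIso (CommRingCat.ofHom φ.toRingHom).op := isIso_of_reflects_iso _ Scheme.Spec
  haveI : IsIso (CommRingCat.ofHom φ.toRingHom) := isIso_of_op _
  have hφ : Function.Bijective φ := ConcreteCategory.bijective_of_isIso (CommRingCat.ofHom φ.toRingHom)
  have hb : Function.Bijective ψ := by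
    refine CAlgLow.bijective_of_bijective_baseChange_nilpotent hI ψ.toLinearMap ?_
    have h : ⇑(ψ.toLinearMap.baseChange (R ⧸ I)) =
        ⇑(TensorProduct.comm R B' (R ⧸ I)) ∘ ⇑φ ∘ ⇑(TensorProduct.comm R (R ⧸ I) B) := by
      funext z
      induction z with
      | zero => simp
      | tmul q b => simp [φ]
      | add x y hx hy =>
        simp only [Function.comp_apply] at hx hy ⊢
        simp only [map_add, hx, hy]
    rw [h]
    exact (TensorProduct.comm R B' (R ⧸ I)).bijective.comp
      (hφ.comp (TensorProduct.comm R (R ⧸ I) B).bijective)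
  haveI : IsIso (CommRingCat.ofHom ψ.toRingHom) := (ConcreteCategory.isIso_iff_bijective _).2 hb
  infer_instance

theorem isPullback_bcMap {Y Y' : Scheme.{u}} (a : Y ⟶ Spec (CommRingCat.of R)) (a' : Y' ⟶ Spec (CommRingCat.of R))
    (f : Y' ⟶ Y) (w : f ≫ a = a') :
    IsPullback (pullback.fst a' (thick I)) (bcMap a a' f w I) f (pullback.fst a (thick I)) := by
  refine IsPullback.of_bot ?_ (pullback.lift_fst _ _ _).symm (IsPullback.of_hasPullback a (thick I))
  rw [pullback.lift_snd, Category.comp_id, w]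
  exact IsPullback.of_hasPullback a' (thick I)

theorem isIso_affine (hI : IsNilpotent I) {Y Y' : Scheme.{u}} [IsAffine Y] [IsAffine Y']
    (a : Y ⟶ Spec (CommRingCat.of R)) (a' : Y' ⟶ Spec (CommRingCat.of R)) (f : Y' ⟶ Y) (w : f ≫ a = a') [Flat a']
    [IsIso (bcMap a a' f w I)] : IsIso f := by
  let α := Spec.preimage (Y.isoSpec.inv ≫ a)
  let α' := Spec.preimage (Y'.isoSpec.inv ≫ a')
  letI : Algebra R Γ(Y, ⊤) := α.hom.toAlgebra
  letI : Algebra R Γ(Y', ⊤) := α'.hom.toAlgebra
  let g := Y'.isoSpec.inv ≫ f ≫ Y.isoSpec.hom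
  have hg : g ≫ Spec.map α = Spec.map α' := by simp [g, α, α', w]
  let ψ₀ := Spec.preimage g
  have hψ : α ≫ ψ₀ = α' := Spec.map_injective (by rw [Spec.map_comp, Spec.map_preimage]; exact hg)
  let ψ : Γ(Y, ⊤) →ₐ[R] Γ(Y', ⊤) := { ψ₀.hom with commutes' := fun r => ConcreteCategory.congr_hom hψ r }
  haveI : Module.Flat R Γ(Y', ⊤) := by
    have h : Flat (Spec.map α') := by
      rw [Spec.map_preimage]; infer_instance
    rw [HasRingHomProperty.Spec_iff (P := @Flat)] at h
    exact RingHom.flat_algebraMap_iff.1 h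
  have hS : Spec.map (CommRingCat.ofHom ψ.toRingHom) = g := Spec.map_preimage g
  have w' : Spec.map (CommRingCat.ofHom ψ.toRingHom) ≫ Spec.map (CommRingCat.ofHom (algebraMap R Γ(Y, ⊤))) =
      Spec.map (CommRingCat.ofHom (algebraMap R Γ(Y', ⊤))) := by rw [hS]; exact hg
  have hα : CommRingCat.ofHom (algebraMap R Γ(Y, ⊤)) = α := rfl
  have hα' : CommRingCat.ofHom (algebraMap R Γ(Y', ⊤)) = α' := rfl
  let e : pullback (Spec.map (CommRingCat.ofHom (algebraMap R Γ(Y', ⊤)))) (thick I) ⟶ pullback a' (thick I) :=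
    pullback.map _ _ a' (thick I) Y'.isoSpec.inv (𝟙 _) (𝟙 _) (by rw [hα']; simp [α']) (by simp)
  let e₂ : pullback a (thick I) ⟶ pullback (Spec.map (CommRingCat.ofHom (algebraMap R Γ(Y, ⊤)))) (thick I) :=
    pullback.map _ _ _ (thick I) Y.isoSpec.hom (𝟙 _) (𝟙 _) (by rw [hα]; simp [α]) (by simp)
  haveI : IsIso (bcMap (Spec.map (CommRingCat.ofHom (algebraMap R Γ(Y, ⊤))))
      (Spec.map (CommRingCat.ofHom (algebraMap R Γ(Y', ⊤)))) (Spec.map (CommRingCat.ofHom ψ.toRingHom)) w' I) := by
    have : bcMap (Spec.map (CommRingCat.ofHom (algebraMap R Γ(Y, ⊤))))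
        (Spec.map (CommRingCat.ofHom (algebraMap R Γ(Y', ⊤)))) (Spec.map (CommRingCat.ofHom ψ.toRingHom)) w' I =
        e ≫ bcMap a a' f w I ≫ e₂ := by
      apply pullback.hom_ext
      · simp only [bcMap, e, e₂, Category.assoc, pullback.lift_fst, pullback.lift_fst_assoc]
        rw [hS]
      · simp only [bcMap, e, e₂, Category.assoc, pullback.lift_snd, pullback.lift_snd_assoc, Category.comp_id]
    rw [this]
    haveI : IsIso e := inferInstance
    haveI : IsIso e₂ := inferInstance
    infer_instance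
  have h := isIso_ring hI ψ w'
  rw [hS] at h
  haveI : IsIso (Y'.isoSpec.hom ≫ g ≫ Y.isoSpec.inv) := inferInstance
  simpa [g] using ‹IsIso (Y'.isoSpec.hom ≫ g ≫ Y.isoSpec.inv)›

/-- A morphism with flat source which is invertible modulo a nilpotent ideal is invertible. -/
theorem isIso_of_isIso_mod (hI : IsNilpotent I) {Y Y' : Scheme.{u}} (a : Y ⟶ Spec (CommRingCat.of R))
    (a' : Y' ⟶ Spec (CommRingCat.of R)) (f : Y' ⟶ Y) (w : f ≫ a = a') [Flat a'] [IsIso (bcMap a a' f w I)] :
    IsIso f := by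
  haveI := surjective_thick hI
  show MorphismProperty.isomorphisms Scheme.{u} f
  rw [IsZariskiLocalAtTarget.iff_of_iSup_eq_top (P := MorphismProperty.isomorphisms Scheme.{u}) _
    (iSup_affineOpens_eq_top Y)]
  rintro ⟨V, hV⟩
  haveI : IsAffine V.toScheme := hV
  let W := f ⁻¹ᵁ V
  have wg : (f ∣_ V) ≫ V.ι ≫ a = W.ι ≫ a' := by
    rw [morphismRestrict_ι_assoc, w]
  let m := bcMap (V.ι ≫ a) (W.ι ≫ a') (f ∣_ V) wg I
  let l : pullback (V.ι ≫ a) (thick I) ⟶ pullback a (thick I) :=
    pullback.map _ _ a (thick I) V.ι (𝟙 _) (𝟙 _) (by simp) (by simp)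
  let l' : pullback (W.ι ≫ a') (thick I) ⟶ pullback a' (thick I) :=
    pullback.map _ _ a' (thick I) W.ι (𝟙 _) (𝟙 _) (by simp) (by simp)
  have h1 := (isPullback_bcMap (I := I) (V.ι ≫ a) (W.ι ≫ a') (f ∣_ V) wg).paste_horiz
    (isPullback_morphismRestrict f V).flip
  rw [show pullback.fst (W.ι ≫ a') (thick I) ≫ W.ι = l' ≫ pullback.fst a' (thick I) from (pullback.lift_fst _ _ _).symm,
    show pullback.fst (V.ι ≫ a) (thick I) ≫ V.ι = l ≫ pullback.fst a (thick I) from (pullback.lift_fst _ _ _).symm] at h1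
  have h2 : IsPullback l' m (bcMap a a' f w I) l := by
    refine IsPullback.of_right h1 ?_ (isPullback_bcMap a a' f w)
    apply pullback.hom_ext
    · simp only [m, l, l', bcMap, Category.assoc, pullback.lift_fst, pullback.lift_fst_assoc, morphismRestrict_ι]
      rfl
    · simp [m, l, l', bcMap]
  haveI : IsIso m := MorphismProperty.of_isPullback (P := MorphismProperty.isomorphisms Scheme.{u}) h2
    (inferInstanceAs (IsIso (bcMap a a' f w I)))
  haveI : IsAffine (pullback (V.ι ≫ a) (thick I)) := isAffine_of_isAffineHom (pullback.fst (V.ι ≫ a) (thick I))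
  haveI : IsAffine (pullback (W.ι ≫ a') (thick I)) := IsAffine.of_isIso m
  haveI : Surjective (pullback.fst (W.ι ≫ a') (thick I)) := MorphismProperty.pullback_fst _ _ inferInstance
  haveI : IsAffine W.toScheme := ChevAff4.isAffine_of_surjective (pullback.fst (W.ι ≫ a') (thick I))
  exact isIso_affine hI (V.ι ≫ a) (W.ι ≫ a') (f ∣_ V) wg

end Groth.Agent.GrpLift20
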